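import Groth.Agent.L10.FormCat.Basic
import Groth.Agent.S9249
import Groth.Agent.S0552
import Groth.Agent.S9127
import Groth.Agent.L03.CatenaryColim
import Groth.Agent.L04.CMLoc
import Groth.Agent.L01.CohenRing
import Groth.Agent.L01.CohenFinite
import Groth.Agent.L29.Dual.CompleteDual
import Groth.Agent.L01.AnalUnram
import Mathlib.RingTheory.Flat.Stability

/-!
Formally equidimensional and formally catenary local rings (EGA IV 7.1).
-/

set_option autoImplicit false
set_option linter.all false

universe u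

open IsLocalRing

namespace Groth.L10.FormCat

/-- complete Noetherian local rings are quotients of regular local rings -/
theorem exists_regular_surjective (R : Type u) [CommRing R] [IsLocalRing R] [IsNoetherianRing R]
    [IsAdicComplete (maximalIdeal R) R] :
    ∃ (S : Type u) (_ : CommRing S) (_ : IsRegularLocalRing S) (φ : S →+* R), Function.Surjective φ := by
  obtain ⟨n, x, hx⟩ := Submodule.fg_iff_exists_fin_generating_family.mp
    (Ideal.fg_of_isNoetherianRing (maximalIdeal R))
  obtain ⟨p, hp⟩ := CharP.exists (ResidueField R)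
  rcases CharP.char_is_prime_or_zero (ResidueField R) p with hpp | rfl
  · haveI := Fact.mk hpp
    obtain ⟨Λ, _, _, _, -, hm, hreg, -, _, ⟨e⟩⟩ := Groth.L01.Cohen.exists_cohenRing p (ResidueField R)
    have hpR : (p : R) ∈ maximalIdeal R := by
      rw [← residue_eq_zero_iff, map_natCast, CharP.cast_eq_zero]
    obtain ⟨F, hF⟩ := Groth.L01.Cohen.exists_lift_cohen hm hreg hpR (e.toRingHom.comp (residue Λ))
    obtain ⟨φ, -, -, hφ⟩ := Groth.L01.Cohen.exists_surjective_powerSeries F
      (by rw [hF]; exact e.surjective.comp residue_surjective) x hx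
    exact ⟨_, _, Groth.L29.CompleteDual.isRegularLocalRing_mvPowerSeries Λ (p : Λ) hm
      (fun h => one_ne_zero (hreg 1 (by rw [h, zero_mul]))) n, φ, hφ⟩
  · haveI := CharP.charP_to_charZero (ResidueField R)
    obtain ⟨F, hF⟩ := Groth.L01.Cohen.exists_coefficientField_charZero (R := R)
    obtain ⟨φ, -, -, hφ⟩ := Groth.L01.Cohen.exists_surjective_powerSeries F
      (by rw [hF]; exact Function.surjective_id) x hx
    exact ⟨_, _, inferInstance, φ, hφ⟩

theorem isUniversallyCatenary_of_surjective_cm {S R : Type u} [CommRing S] [CommRing R]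
    [LocCoh.IsCohenMacaulayLocalRing S] (φ : S →+* R) (hφ : Function.Surjective φ) :
    CAlg.IsUniversallyCatenary R := by
  haveI := Groth.L04.isCohenMacaulayRing_of_local S
  have h := Groth.Agent.S0603.result S
  haveI := h.1
  refine ⟨isNoetherianRing_of_surjective S R φ hφ, fun T _ _ hT => ?_⟩
  letI : Algebra S R := φ.toAlgebra
  letI : Algebra S T := ((algebraMap R T).comp φ).toAlgebra
  haveI : IsScalarTower S R T := IsScalarTower.of_algebraMap_eq fun _ => rfl
  exact h.2 T (Algebra.FiniteType.trans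
    (Algebra.FiniteType.of_surjective (Algebra.ofId S R) hφ) hT)

theorem isUniversallyCatenary_complete (R : Type u) [CommRing R] [IsLocalRing R] [IsNoetherianRing R]
    [IsAdicComplete (maximalIdeal R) R] : CAlg.IsUniversallyCatenary R := by
  obtain ⟨S, _, _, φ, hφ⟩ := exists_regular_surjective R
  haveI := Groth.L04.isCohenMacaulayLocalRing_of_regular S
  exact isUniversallyCatenary_of_surjective_cm φ hφ

variable (A : Type u) [CommRing A] [IsLocalRing A] [IsNoetherianRing A]

theorem cpl_facts : IsNoetherianRing (EGA4.Cpl A) ∧ CAlg.IsUniversallyCatenary (EGA4.Cpl A) ∧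
    CAlg.IsCatenary (EGA4.Cpl A) ∧ IsLocalHom (algebraMap A (EGA4.Cpl A)) ∧
    Module.Flat A (EGA4.Cpl A) ∧ ringKrullDim (EGA4.FibRing A (EGA4.Cpl A)) = 0 := by
  haveI := Groth.L01.AnalUnram.isNoetherianRing_completion A
  haveI := Groth.L01.CompletionExt.faithfullyFlat A
  haveI : IsAdicComplete (maximalIdeal (EGA4.Cpl A)) (EGA4.Cpl A) := inferInstance
  have h := isUniversallyCatenary_complete (EGA4.Cpl A)
  refine ⟨inferInstance, h, h.2 (EGA4.Cpl A) inferInstance, ⟨fun r hr => ?_⟩, inferInstance, ?_⟩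
  · by_contra hn
    have h1 : algebraMap A (EGA4.Cpl A) r ∈ maximalIdeal (EGA4.Cpl A) := by
      rw [← Groth.L01.AnalUnram.completion_map_maximalIdeal]
      exact Ideal.mem_map_of_mem _ hn
    exact h1 hr
  · unfold EGA4.FibRing EGA4.mB
    rw [ringKrullDim_eq_of_ringEquiv (Ideal.quotEquivOfEq (Groth.L01.AnalUnram.completion_map_maximalIdeal A))]
    exact ringKrullDim_eq_zero_of_isField
      ((Ideal.Quotient.maximal_ideal_iff_isField_quotient _).1 (maximalIdeal.isMaximal _))

theorem isEquidim_of_ringEquiv {R R' : Type u} [CommRing R] [CommRing R'] (e : R ≃+* R')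
    (h : EGA4.IsEquidim R) : EGA4.IsEquidim R' := by
  intro p hp
  have hp' : p.comap (e : R →+* R') ∈ minimalPrimes R := by
    show _ ∈ (⊥ : Ideal R).minimalPrimes
    rw [show (⊥ : Ideal R) = (⊥ : Ideal R').comap (e : R →+* R') from
      (Ideal.comap_bot_of_injective (e : R →+* R') e.injective).symm,
      Ideal.comap_minimalPrimes_eq_of_surjective (f := (e : R →+* R')) e.surjective]
    exact ⟨p, hp, rfl⟩
  rw [← ringKrullDim_eq_of_ringEquiv e, ← h _ hp']
  exact (ringKrullDim_eq_of_ringEquiv (Ideal.quotientEquiv _ p e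
    (Ideal.map_comap_of_surjective (e : R →+* R') e.surjective p).symm)).symm

theorem formally_equidim {A : Type u} [CommRing A] [IsLocalRing A] [IsNoetherianRing A]
    (h : EGA4.IsFormallyEquidim A) : EGA4.IsEquidim A ∧ CAlg.IsCatenary A := by
  obtain ⟨h1, -, h3, h4, h5, -⟩ := cpl_facts A
  exact equidim_catenary_descent (B := EGA4.Cpl A) h3 h

theorem equidim_quotient_iff {A : Type u} [CommRing A] [IsLocalRing A] [IsNoetherianRing A]
    (h : EGA4.IsFormallyEquidim A) (a : Ideal A) [Nontrivial (A ⧸ a)] :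
    EGA4.IsEquidim (A ⧸ a) ↔ EGA4.IsFormallyEquidim (A ⧸ a) := by
  refine ⟨fun ha => ?_, fun ha => (formally_equidim ha).1⟩
  obtain ⟨h1, -, hc, h4, h5, hf⟩ := cpl_facts A
  have hatop : a ≠ ⊤ := Ideal.Quotient.nontrivial_iff.1 inferInstance
  haveI := Groth.L01.isLocalRing_quotient (map_ne_top (B := EGA4.Cpl A) hatop)
  obtain ⟨e⟩ := Groth.L07.RegQuot.exists_completionQuotEquiv (Ideal.Quotient.mk a) Ideal.Quotient.mk_surjective
  refine isEquidim_of_ringEquiv ((Ideal.quotEquivOfEq (congrArg (Ideal.map (algebraMap A (EGA4.Cpl A)))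
    (Ideal.mk_ker (I := a)).symm)).trans e) ?_
  -- the completed quotient is equidimensional
  obtain ⟨n, hn⟩ := Groth.L01.exists_dim_eq_nat (R := EGA4.Cpl A)
  obtain ⟨m, hm⟩ := Groth.L01.exists_dim_eq_nat (R := A)
  obtain ⟨d, hd⟩ := Groth.L01.exists_dim_eq_nat (R := A ⧸ a)
  have hdB : ringKrullDim (EGA4.Cpl A ⧸ a.map (algebraMap A (EGA4.Cpl A))) = d := by
    rw [dim_add_fib (B := EGA4.Cpl A) hatop, hf, add_zero, hd]
  have hmn : m = n := by
    have := Groth.L01.CompletionReg.ringKrullDim_completion A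
    rw [hm] at this
    exact_mod_cast this.symm.trans hn
  intro P hP
  haveI : P.IsPrime := hP.1.1
  let aB := a.map (algebraMap A (EGA4.Cpl A))
  let P' := P.comap (Ideal.Quotient.mk aB)
  have hP' : P' ∈ aB.minimalPrimes := by
    rw [← Ideal.mk_ker (I := aB), RingHom.ker_eq_comap_bot,
      Ideal.comap_minimalPrimes_eq_of_surjective Ideal.Quotient.mk_surjective]
    exact ⟨P, hP, rfl⟩
  let p := P'.under A
  haveI : P'.LiesOver p := ⟨rfl⟩
  haveI : p.IsPrime := Ideal.IsPrime.comap _
  have hap : a ≤ p := Ideal.map_le_iff_le_comap.1 hP'.le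
  have hp : p ∈ a.minimalPrimes := by
    refine ⟨⟨inferInstance, hap⟩, fun p' ⟨hp', hap'⟩ hle => ?_⟩
    haveI := hp'
    obtain ⟨Q', hQ', hQ'p, hQ'o⟩ := P'.exists_ideal_le_liesOver_of_le (p := p') (q := p) hle
    have := hP'.2 ⟨hQ'p, Ideal.map_le_iff_le_comap.2 (hap'.trans hQ'o.over.le)⟩ hQ'
    exact le_of_le_of_eq (Ideal.comap_mono this) hQ'o.over.symm
  have hPp : P' ∈ (p.map (algebraMap A (EGA4.Cpl A))).minimalPrimes :=
    ⟨⟨inferInstance, Ideal.map_le_iff_le_comap.2 le_rfl⟩, fun Q ⟨hQ, hQp⟩ hle =>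
      hP'.2 ⟨hQ, (Ideal.map_mono hap).trans hQp⟩ hle⟩
  have h6 := height_add hc h hn ⟨P', inferInstance⟩
  rw [(minimal_over hPp).2] at h6
  have h7 := height_add_descent (A := A) (B := EGA4.Cpl A) hc h hm ⟨p, inferInstance⟩
  obtain ⟨c, hc'⟩ := ENat.ne_top_iff_exists.1 (Ideal.height_ne_top (I := p) (Ideal.IsPrime.ne_top inferInstance))
  change p.height + _ = _ at h7
  rw [← hc'] at h6 h7
  have h6' : c + qd (⟨P', inferInstance⟩ : PrimeSpectrum (EGA4.Cpl A)) = n := by exact_mod_cast h6
  have h7' : c + qd (⟨p, inferInstance⟩ : PrimeSpectrum A) = m := by exact_mod_cast h7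
  have hpd : qd (⟨p, inferInstance⟩ : PrimeSpectrum A) = d := by
    refine (qd_eq_iff _ d).1 ?_
    have h8 : p.map (Ideal.Quotient.mk a) ∈ minimalPrimes (A ⧸ a) := by
      have hc2 : p.map (Ideal.Quotient.mk a) ∈ (⊥ : Ideal (A ⧸ a)).minimalPrimes := by
        rw [← Ideal.mk_ker (I := a), RingHom.ker_eq_comap_bot,
          Ideal.comap_minimalPrimes_eq_of_surjective Ideal.Quotient.mk_surjective] at hp
        obtain ⟨q, hq, hqp⟩ := hp
        rw [← hqp, Ideal.map_comap_of_surjective _ Ideal.Quotient.mk_surjective]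
        exact hq
      exact hc2
    rw [← hd, ← ha _ h8]
    exact (ringKrullDim_eq_of_ringEquiv (DoubleQuot.quotQuotEquivQuotOfLE hap)).symm
  have hmap : P'.map (Ideal.Quotient.mk aB) = P := Ideal.map_comap_of_surjective _ Ideal.Quotient.mk_surjective _
  have e' := ringKrullDim_eq_of_ringEquiv (DoubleQuot.quotQuotEquivQuotOfLE hP'.le)
  rw [hmap, dim_quot ⟨P', inferInstance⟩] at e'
  rw [e', hdB]
  exact_mod_cast (show qd (⟨P', inferInstance⟩ : PrimeSpectrum (EGA4.Cpl A)) = d by omega)

/-- quotients of Cohen-Macaulay local rings are formally catenary -/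
theorem formallyCatenary_of_cm {A B : Type u} [CommRing A] [LocCoh.IsCohenMacaulayLocalRing A]
    [CommRing B] [IsNoetherianRing B] [IsLocalRing B] (φ : A →+* B) (hφ : Function.Surjective φ) :
    EGA4.IsFormallyCatenary B := by
  have hA : EGA4.IsFormallyEquidim A := by
    haveI : LocCoh.IsCohenMacaulayLocalRing (AdicCompletion (maximalIdeal A) A) :=
      (Groth.Agent.S9249.result A).1 inferInstance
    intro p hp
    haveI := hp.1.1
    have := Groth.Agent.S0603.height_add_quotient_of_cm p
    rwa [Ideal.height_eq_zero_iff.2 hp, WithBot.coe_zero, add_zero] at this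
  intro p _
  let ψ := (Ideal.Quotient.mk p).comp φ
  have hψ : Function.Surjective ψ := Ideal.Quotient.mk_surjective.comp hφ
  let e := RingHom.quotientKerEquivOfSurjective hψ
  haveI : (RingHom.ker ψ).IsPrime := RingHom.ker_isPrime ψ
  have h1 : EGA4.IsEquidim (A ⧸ RingHom.ker ψ) := by
    intro q hq
    rw [IsDomain.minimalPrimes_eq_singleton_bot] at hq
    rw [Set.mem_singleton_iff.1 hq]
    exact ringKrullDim_eq_of_ringEquiv (RingEquiv.quotientBot _)
  have h2 := (equidim_quotient_iff hA (RingHom.ker ψ)).1 h1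
  have hloc : IsLocalRing (A ⧸ RingHom.ker ψ) := inferInstance
  -- transport along the isomorphism
  obtain ⟨e₁⟩ := Groth.L07.RegQuot.exists_completionQuotEquiv
    (Ideal.Quotient.mk (RingHom.ker ψ)) Ideal.Quotient.mk_surjective
  obtain ⟨e₂⟩ := Groth.L07.RegQuot.exists_completionQuotEquiv ψ hψ
  exact isEquidim_of_ringEquiv (e₁.symm.trans ((Ideal.quotEquivOfEq (by rw [Ideal.mk_ker])).trans e₂)) h2

/-! ### Polynomial rings over catenary local rings -/

section Poly

variable {B : Type u} [CommRing B] [IsNoetherianRing B] [IsLocalRing B]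

open MvPolynomial in
/-- the primes extended from the base -/
noncomputable def ext (n : ℕ) (P : PrimeSpectrum B) : PrimeSpectrum (MvPolynomial (Fin n) B) :=
  ⟨RingHom.ker (MvPolynomial.map (σ := Fin n) (Ideal.Quotient.mk P.asIdeal)),
    haveI := P.isPrime; RingHom.ker_isPrime _⟩

open MvPolynomial in
theorem mem_ext {n : ℕ} {P : PrimeSpectrum B} {f : MvPolynomial (Fin n) B} :
    f ∈ (ext n P).asIdeal ↔ ∀ m, f.coeff m ∈ P.asIdeal := by
  simp only [ext, RingHom.mem_ker, MvPolynomial.ext_iff, MvPolynomial.coeff_map, MvPolynomial.coeff_zero,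
    Ideal.Quotient.eq_zero_iff_mem]

open MvPolynomial in
theorem ext_eq_map (n : ℕ) (P : PrimeSpectrum B) :
    (ext n P).asIdeal = P.asIdeal.map (C : B →+* MvPolynomial (Fin n) B) := by
  refine le_antisymm (fun f hf => mem_map_C_iff.2 (mem_ext.1 hf)) fun f hf => mem_ext.2 (mem_map_C_iff.1 hf)

open MvPolynomial in
theorem comap_ext (n : ℕ) (P : PrimeSpectrum B) :
    (ext n P).asIdeal.comap (C : B →+* MvPolynomial (Fin n) B) = P.asIdeal := by
  ext b
  rw [Ideal.mem_comap, mem_ext]
  refine ⟨fun h => by simpa using h 0, fun h m => ?_⟩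
  rw [MvPolynomial.coeff_C]
  split_ifs
  · exact h
  · exact zero_mem _

open MvPolynomial in
theorem ext_covBy {n : ℕ} {P P' : PrimeSpectrum B} (h : P ⋖ P') : ext n P ⋖ ext n P' := by
  have hle : ∀ P P' : PrimeSpectrum B, P ≤ P' → ext n P ≤ ext n P' := fun P P' h f hf =>
    mem_ext.2 fun m => h (mem_ext.1 hf m)
  have hlt : ext n P < ext n P' := lt_of_le_of_ne (hle _ _ h.le) fun he => h.ne (PrimeSpectrum.ext (by
    rw [← comap_ext n P, he, comap_ext]))
  refine ⟨hlt, fun z h1 h2 => ?_⟩
  haveI := z.isPrime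
  haveI := P.isPrime
  haveI := P'.isPrime
  let ψ : MvPolynomial (Fin n) B →+* MvPolynomial (Fin n) (B ⧸ P.asIdeal) :=
    MvPolynomial.map (Ideal.Quotient.mk P.asIdeal)
  have hψ : Function.Surjective ψ := MvPolynomial.map_surjective _ Ideal.Quotient.mk_surjective
  have hker : RingHom.ker ψ = (ext n P).asIdeal := rfl
  let J' := P'.asIdeal.map (Ideal.Quotient.mk P.asIdeal)
  haveI : J'.IsPrime := Ideal.map_isPrime_of_surjective Ideal.Quotient.mk_surjective (by
    rw [Ideal.mk_ker]; exact h.le)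
  have hE : (ext n P').asIdeal.map ψ = J'.map (C : (B ⧸ P.asIdeal) →+* _) := by
    rw [ext_eq_map, Ideal.map_map, Ideal.map_map]
    exact congrArg (fun f => Ideal.map f P'.asIdeal) (RingHom.ext fun b => MvPolynomial.map_C _ b)
  haveI hEp : (J'.map (C : (B ⧸ P.asIdeal) →+* MvPolynomial (Fin n) (B ⧸ P.asIdeal))).IsPrime := by
    rw [← hE]; exact Ideal.map_isPrime_of_surjective hψ (hker.le.trans hlt.le)
  have hht : (J'.map (C : (B ⧸ P.asIdeal) →+* MvPolynomial (Fin n) (B ⧸ P.asIdeal))).height = J'.height := by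
    let E : Ideal (MvPolynomial (Fin n) (B ⧸ P.asIdeal)) := J'.map C
    haveI : E.LiesOver J' := ⟨by
      ext b
      show b ∈ J' ↔ C b ∈ E
      rw [mem_map_C_iff]
      refine ⟨fun hb m => ?_, fun hb => by simpa using hb 0⟩
      rw [MvPolynomial.coeff_C]
      split_ifs
      · exact hb
      · exact zero_mem _⟩
    rw [Ideal.height_eq_height_add_of_liesOver_of_hasGoingDown J' E]
    convert add_zero _
    rw [MvPolynomial.algebraMap_eq, Ideal.map_quotient_self]
    haveI : (J'.map (C : (B ⧸ P.asIdeal) →+* MvPolynomial (Fin n) (B ⧸ P.asIdeal))).IsPrime := hEp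
    exact Ideal.height_bot
  have hle1 : (J'.map (C : (B ⧸ P.asIdeal) →+* MvPolynomial (Fin n) (B ⧸ P.asIdeal))).height ≤ 1 :=
    hht.le.trans (Groth.Agent.S0603.height_map_le_one_of_covBy h)
  rw [← hE] at hle1
  haveI : ((ext n P').asIdeal.map ψ).IsPrime := Ideal.map_isPrime_of_surjective hψ (hker.le.trans hlt.le)
  haveI : (z.asIdeal.map ψ).IsPrime := Ideal.map_isPrime_of_surjective hψ (hker.le.trans h1.le)
  have hz1 : z.asIdeal.map ψ < (ext n P').asIdeal.map ψ := by
    refine lt_of_le_of_ne (Ideal.map_mono h2.le) fun he => h2.ne (PrimeSpectrum.ext ?_)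
    have := congrArg (Ideal.comap ψ) he
    rwa [Ideal.comap_map_of_surjective ψ hψ, Ideal.comap_map_of_surjective ψ hψ, ← RingHom.ker_eq_comap_bot,
      hker, sup_eq_left.2 (show (ext n P).asIdeal ≤ z.asIdeal from h1.le),
      sup_eq_left.2 (show (ext n P).asIdeal ≤ _ from hlt.le)] at this
  have hz0 : z.asIdeal.map ψ ≠ ⊥ := fun he => h1.ne (PrimeSpectrum.ext (le_antisymm h1.le (by
    rw [← hker]; exact (Ideal.map_eq_bot_iff_le_ker ψ).1 he)))
  have h3 := (Ideal.height_strict_mono_of_isPrime_of_isPrime hz1).trans_le hle1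
  rw [ENat.lt_one_iff_eq_zero, Ideal.height_eq_zero_iff, IsDomain.minimalPrimes_eq_singleton_bot] at h3
  exact hz0 h3

/-- a localized polynomial ring over an equidimensional universally catenary local ring is equidimensional
and catenary -/
theorem poly_equidim (hB : CAlg.IsUniversallyCatenary B) (he : EGA4.IsEquidim B) {n : ℕ}
    (Q : Ideal (MvPolynomial (Fin n) B)) [Q.IsPrime] :
    EGA4.IsEquidim (Localization.AtPrime Q) ∧ CAlg.IsCatenary (Localization.AtPrime Q) := by
  let S := MvPolynomial (Fin n) B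
  let L := Localization.AtPrime Q
  have hcS : CAlg.IsCatenary S := hB.2 S inferInstance
  have hcL : CAlg.IsCatenary L := Groth.L03.Catenary.isCatenary_localization Q.primeCompl L hcS
  have hcB : CAlg.IsCatenary B := hB.2 B inferInstance
  refine ⟨?_, hcL⟩
  obtain ⟨m, hm⟩ := Groth.L01.exists_dim_eq_nat (R := B)
  let ι : PrimeSpectrum L ↪o PrimeSpectrum S :=
    (IsLocalization.AtPrime.primeSpectrumOrderIso L Q).toOrderEmbedding.trans (OrderEmbedding.subtype _)
  have hι : ∀ z : PrimeSpectrum S, z.asIdeal ≤ Q → ∃ y, ι y = z := fun z hz =>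
    ⟨(IsLocalization.AtPrime.primeSpectrumOrderIso L Q).symm ⟨z, hz⟩, by simp [ι]⟩
  have hιQ : ∀ y, (ι y).asIdeal ≤ Q := fun y => (IsLocalization.AtPrime.primeSpectrumOrderIso L Q y).2
  let R : PrimeSpectrum B := ⟨Q.comap MvPolynomial.C, Ideal.IsPrime.comap _⟩
  have hextQ : ∀ P : PrimeSpectrum B, P ≤ R → (ext n P).asIdeal ≤ Q := fun P hP => by
    rw [ext_eq_map]; exact Ideal.map_le_iff_le_comap.2 hP
  obtain ⟨M, hM⟩ := hι (ext n R) (hextQ R le_rfl)
  -- every minimal prime has the same dimension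
  have key : ∀ y : PrimeSpectrum L, IsMin y → qd y + qd R = qd M + m := by
    intro y hy
    let P₀ : PrimeSpectrum B := ⟨(ι y).asIdeal.comap MvPolynomial.C, Ideal.IsPrime.comap _⟩
    have hP₀R : P₀ ≤ R := Ideal.comap_mono (hιQ y)
    have hyext : ι y = ext n P₀ := by
      have hle : ext n P₀ ≤ ι y := by
        show (ext n P₀).asIdeal ≤ (ι y).asIdeal
        rw [ext_eq_map]; exact Ideal.map_comap_le
      obtain ⟨y', hy'⟩ := hι (ext n P₀) (hextQ P₀ hP₀R)
      have := hy (show y' ≤ y from ι.le_iff_le.1 (hy' ▸ hle))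
      exact le_antisymm ((ι.le_iff_le.2 this).trans_eq hy') hle
    have hP₀min : P₀.asIdeal ∈ minimalPrimes B := by
      rw [← PrimeSpectrum.isMin_iff]
      intro P hP
      have hlef : ext n P ≤ ext n P₀ := fun f hf => mem_ext.2 fun k => hP (mem_ext.1 hf k)
      obtain ⟨y', hy'⟩ := hι (ext n P) (hextQ P (hP.trans hP₀R))
      have := hy (show y' ≤ y from ι.le_iff_le.1 (by rw [hy', hyext]; exact hlef))
      have h' : ext n P₀ ≤ ext n P := hyext ▸ hy' ▸ ι.le_iff_le.2 this
      show P₀.asIdeal ≤ P.asIdeal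
      rw [← comap_ext n P₀, ← comap_ext n P]
      exact Ideal.comap_mono h'
    -- a saturated chain from `P₀` to `R`
    obtain ⟨s, hsh, hsl, hscov⟩ : ∃ s : LTSeries (PrimeSpectrum B), s.head = P₀ ∧ s.last = R ∧
        ∀ i : Fin s.length, s (Fin.castSucc i) ⋖ s i.succ := by
      haveI := R.isPrime
      let T := R.asIdeal.map (Ideal.Quotient.mk P₀.asIdeal)
      haveI : T.IsPrime := Ideal.map_isPrime_of_surjective Ideal.Quotient.mk_surjective (by
        rw [Ideal.mk_ker]; exact hP₀R)
      haveI := P₀.isPrime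
      obtain ⟨t, htl, htn⟩ := T.exists_ltSeries_length_eq_height
      obtain ⟨tmin, tcov⟩ := Groth.L22.DimFormula.covBy_of_length_eq_height (s := t) (by
        rw [htn, htl]; exact PrimeSpectrum.height_eq_orderHeight ⟨_, _⟩)
      let e : PrimeSpectrum (B ⧸ P₀.asIdeal) ↪o PrimeSpectrum B :=
        Groth.L03.Catenary.comapEmb (Ideal.Quotient.mk P₀.asIdeal) fun x y h a ha => by
          obtain ⟨b, rfl⟩ := Ideal.Quotient.mk_surjective a
          exact h ha
      have hr : (Set.range e).OrdConnected := by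
        have : Set.range e = PrimeSpectrum.zeroLocus (P₀.asIdeal : Set B) := by
          change Set.range (PrimeSpectrum.comap (Ideal.Quotient.mk P₀.asIdeal)) = _
          rw [range_comap_of_surjective _ _ Ideal.Quotient.mk_surjective, Ideal.mk_ker]
        rw [this]
        exact ⟨fun x hx y _ z hz => (show (P₀.asIdeal : Set B) ⊆ x.asIdeal from hx).trans hz.1⟩
      refine ⟨t.map e e.strictMono, ?_, ?_, fun i => (hr.apply_covBy_apply_iff e).2 (tcov i)⟩
      · rw [LTSeries.head_map]
        refine PrimeSpectrum.ext ?_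
        have hb : t.head = ⟨⊥, Ideal.isPrime_bot⟩ := le_antisymm
          (tmin (show (⟨⊥, Ideal.isPrime_bot⟩ : PrimeSpectrum (B ⧸ P₀.asIdeal)) ≤ t.head from bot_le)) bot_le
        rw [hb]
        show Ideal.comap (Ideal.Quotient.mk P₀.asIdeal) ⊥ = _
        rw [← RingHom.ker, Ideal.mk_ker]
      · rw [LTSeries.last_map, htl]
        refine PrimeSpectrum.ext ?_
        show (R.asIdeal.map (Ideal.Quotient.mk P₀.asIdeal)).comap (Ideal.Quotient.mk P₀.asIdeal) = R.asIdeal
        rw [Ideal.comap_map_mk hP₀R]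
    have hlen := series_eq hcB s hscov
    rw [hsh, hsl, qd_minimal he hm P₀ hP₀min] at hlen
    choose y' hy' using fun i => hι (ext n (s i)) (hextQ (s i) (hsl ▸ s.monotone (Fin.le_last i)))
    have hc' : ∀ i : Fin s.length, y' (Fin.castSucc i) ⋖ y' i.succ := fun i => by
      refine CovBy.of_image ι ?_
      rw [hy', hy']
      exact ext_covBy (hscov i)
    have hlen' := series_eq hcL ⟨s.length, y', fun i => (hc' i).lt⟩ hc'
    have e1 : y' 0 = y := ι.injective ((hy' 0).trans ((congrArg (ext n) hsh).trans hyext.symm))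
    have e2 : y' (Fin.last _) = M := ι.injective ((hy' _).trans ((congrArg (ext n) hsl).trans hM.symm))
    simp only [RelSeries.head, RelSeries.last] at hlen'
    rw [e1, e2] at hlen'
    omega
  intro p hp
  haveI := hp.1.1
  obtain ⟨N, hN⟩ := Groth.L01.exists_dim_eq_nat (R := L)
  -- compare with a minimal prime of maximal dimension
  obtain ⟨y₁, hy₁, hy₁N⟩ : ∃ y : PrimeSpectrum L, IsMin y ∧ N ≤ qd y := by
    obtain ⟨s, hs⟩ := Order.le_krullDim_iff.1 (show ((N : ℕ∞) : WithBot ℕ∞) ≤ Order.krullDim (PrimeSpectrum L) from hN.ge)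
    obtain ⟨q, hq, hle⟩ := Ideal.exists_minimalPrimes_le (J := s.head.asIdeal) (bot_le : (⊥ : Ideal L) ≤ _)
    refine ⟨⟨q, hq.1.1⟩, PrimeSpectrum.isMin_iff.2 hq, ?_⟩
    have h3 : (s.length : ℕ∞) ≤ Order.coheight (⟨q, hq.1.1⟩ : PrimeSpectrum L) := Order.length_le_coheight hle
    have h5 : Order.coheight (⟨q, hq.1.1⟩ : PrimeSpectrum L) ≠ ⊤ :=
      (WithBot.coe_lt_coe.1 ((Order.coheight_le_krullDim _).trans_lt (ringKrullDim_lt_top (R := L)))).ne
    rw [← ENat.natCast_toNat h5, hs] at h3
    exact_mod_cast h3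
  have h1 := key _ (PrimeSpectrum.isMin_iff.2 (show (⟨p, inferInstance⟩ : PrimeSpectrum L).asIdeal ∈ minimalPrimes L from hp))
  have h2 := key _ hy₁
  have h3 : qd (⟨p, inferInstance⟩ : PrimeSpectrum L) ≤ N := by
    have := ringKrullDim_quotient_le p
    rw [dim_quot ⟨p, inferInstance⟩, hN] at this
    exact_mod_cast this
  refine (dim_quot ⟨p, inferInstance⟩).trans ?_
  rw [hN]
  exact_mod_cast (show qd (⟨p, inferInstance⟩ : PrimeSpectrum L) = N by omega)

end Poly

/-- formally catenary local rings are universally catenary -/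
theorem universallyCatenary_of_formallyCatenary {A : Type u} [CommRing A] [IsLocalRing A] [IsNoetherianRing A]
    (hA : EGA4.IsFormallyCatenary A) : CAlg.IsUniversallyCatenary A := by
  refine ⟨inferInstance, fun T _ _ hT => ?_⟩
  obtain ⟨n, f, hf⟩ := Algebra.FiniteType.iff_quotient_mvPolynomial''.1 hT
  have hP : CAlg.IsCatenary (MvPolynomial (Fin n) A) := by
    refine (Groth.Agent.S0552.result _).2 fun q _ => ?_
    rw [Groth.Agent.S9127.result (Localization.AtPrime q)]
    intro P₁ hP₁
    haveI := hP₁.1.1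
    -- the minimal prime comes from a prime of `A`
    let p : PrimeSpectrum A := ⟨(P₁.comap (algebraMap (MvPolynomial (Fin n) A) _)).comap MvPolynomial.C,
      Ideal.IsPrime.comap _⟩
    haveI := p.isPrime
    let Ap := A ⧸ p.asIdeal
    obtain ⟨h1, hu, -, h4, h5, -⟩ := cpl_facts Ap
    let B := EGA4.Cpl Ap
    let ψ : MvPolynomial (Fin n) A →+* MvPolynomial (Fin n) Ap := MvPolynomial.map (Ideal.Quotient.mk p.asIdeal)
    have hψ : Function.Surjective ψ := MvPolynomial.map_surjective _ Ideal.Quotient.mk_surjective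
    have hkle : RingHom.ker ψ ≤ P₁.comap (algebraMap (MvPolynomial (Fin n) A) (Localization.AtPrime q)) := by
      show (ext n p).asIdeal ≤ _
      rw [ext_eq_map]; exact Ideal.map_le_iff_le_comap.2 le_rfl
    have hP₁q : P₁.comap (algebraMap (MvPolynomial (Fin n) A) (Localization.AtPrime q)) ≤ q :=
      (Ideal.comap_mono (le_maximalIdeal (Ideal.IsPrime.ne_top inferInstance))).trans_eq
        (IsLocalization.AtPrime.comap_maximalIdeal (Localization.AtPrime q) q)
    haveI : (q.map ψ).IsPrime := Ideal.map_isPrime_of_surjective hψ (hkle.trans hP₁q)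
    -- go up to the completion
    let χ : MvPolynomial (Fin n) Ap →+* MvPolynomial (Fin n) B := MvPolynomial.map (algebraMap Ap B)
    have hχf : χ.Flat := Groth.L03.CatenaryColim.flat_mvPolynomial_map (algebraMap Ap B) h5 n
    letI : Algebra (MvPolynomial (Fin n) Ap) (MvPolynomial (Fin n) B) := MvPolynomial.algebraMvPolynomial
    haveI : Module.Flat (MvPolynomial (Fin n) Ap) (MvPolynomial (Fin n) B) := hχf
    haveI : Module.FaithfullyFlat Ap B := Groth.L01.CompletionExt.faithfullyFlat Ap
    haveI : Module.FaithfullyFlat (MvPolynomial (Fin n) Ap) (MvPolynomial (Fin n) B) := by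
      have h : IsBaseChange (MvPolynomial (Fin n) Ap) (IsScalarTower.toAlgHom Ap B (MvPolynomial (Fin n) B)).toLinearMap :=
        Algebra.IsPushout.out
      exact Module.FaithfullyFlat.of_linearEquiv _ (TensorProduct Ap (MvPolynomial (Fin n) Ap) B) h.equiv.symm
    obtain ⟨⟨Q, hQp⟩, hQ⟩ := PrimeSpectrum.comap_surjective_of_faithfullyFlat
      (A := MvPolynomial (Fin n) Ap) (B := MvPolynomial (Fin n) B) ⟨q.map ψ, inferInstance⟩
    haveI : Q.LiesOver (q.map ψ) := ⟨(congrArg PrimeSpectrum.asIdeal hQ).symm⟩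
    obtain ⟨he', hc'⟩ := poly_equidim hu (hA p.asIdeal) Q
    letI := Localization.AtPrime.algebraOfLiesOver (q.map ψ) Q
    have hcat : CAlg.IsCatenary (Localization.AtPrime (q.map ψ)) :=
      (equidim_catenary_descent (A := Localization.AtPrime (q.map ψ)) (B := Localization.AtPrime Q) hc' he').2
    -- the quotient of the localization
    let g : Localization.AtPrime q →+* Localization.AtPrime (q.map ψ) :=
      IsLocalization.map (Localization.AtPrime (q.map ψ)) ψ (M := q.primeCompl) (T := (q.map ψ).primeCompl)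
        (fun a ha hm => ha (by
          have : a ∈ (q.map ψ).comap ψ := hm
          rwa [Ideal.comap_map_of_surjective ψ hψ, ← RingHom.ker_eq_comap_bot,
            sup_eq_left.2 (hkle.trans hP₁q)] at this))
    have hgs : Function.Surjective g := by
      intro y
      obtain ⟨a, ⟨s, hs⟩, rfl⟩ := IsLocalization.exists_mk'_eq (q.map ψ).primeCompl y
      obtain ⟨a', rfl⟩ := hψ a
      obtain ⟨s', rfl⟩ := hψ s
      refine ⟨IsLocalization.mk' (M := q.primeCompl) _ a' ⟨s', (fun h => hs (Ideal.mem_map_of_mem _ h) : s' ∈ q.primeCompl)⟩, ?_⟩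
      exact IsLocalization.map_mk' _ _ _
    have hgk : RingHom.ker g = P₁ := by
      have hk : RingHom.ker g = (RingHom.ker ψ).map (algebraMap _ (Localization.AtPrime q)) := by
        refine le_antisymm (fun z hz => ?_) (Ideal.map_le_iff_le_comap.2 fun a ha => ?_)
        · obtain ⟨a, s, rfl⟩ := IsLocalization.exists_mk'_eq q.primeCompl z
          rw [RingHom.mem_ker] at hz
          have hz2 : g (algebraMap _ _ a) = 0 := by
            rw [← IsLocalization.mk'_spec (Localization.AtPrime q) a s, map_mul, hz, zero_mul]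
          replace hz := (IsLocalization.map_eq_zero_iff (q.map ψ).primeCompl (Localization.AtPrime (q.map ψ)) (ψ a)).1
            ((IsLocalization.map_eq _ a).symm.trans hz2)
          obtain ⟨⟨t, ht⟩, hta⟩ := hz
          obtain ⟨t', rfl⟩ := hψ t
          have hmem : t' * a ∈ RingHom.ker ψ := by rw [RingHom.mem_ker, map_mul]; exact hta
          have ht' : t' ∈ q.primeCompl := fun h => ht (Ideal.mem_map_of_mem _ h)
          rw [IsLocalization.mk'_mem_map_algebraMap_iff]
          exact ⟨t', ht', hmem⟩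
        · rw [Ideal.mem_comap, RingHom.mem_ker]
          exact (IsLocalization.map_eq _ a).trans (by rw [RingHom.mem_ker.1 ha, map_zero])
      refine le_antisymm (hk.trans_le (Ideal.map_le_iff_le_comap.2 hkle)) ?_
      haveI : (RingHom.ker g).IsPrime := by
        rw [hk]
        exact IsLocalization.isPrime_of_isPrime_disjoint q.primeCompl _ _ (ext n p).isPrime
          (Set.disjoint_left.2 fun a ha hak => ha ((hkle.trans hP₁q) hak))
      exact hP₁.2 ⟨inferInstance, bot_le⟩ (hk.trans_le (Ideal.map_le_iff_le_comap.2 hkle))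
    let e := (Ideal.quotEquivOfEq hgk.symm).trans (RingHom.quotientKerEquivOfSurjective hgs)
    exact Groth.L03.Catenary.isCatenary_of_emb (PrimeSpectrum.comapEquiv e.symm).symm.toOrderEmbedding (by
      rw [show Set.range (PrimeSpectrum.comapEquiv e.symm).symm.toOrderEmbedding = Set.univ from
        Set.range_eq_univ.2 (PrimeSpectrum.comapEquiv e.symm).symm.surjective]; exact Set.ordConnected_univ) hcat
  let e := Ideal.quotientKerAlgEquivOfSurjective hf
  exact Groth.L03.Catenary.isCatenary_of_emb (PrimeSpectrum.comapEquiv e.toRingEquiv).symm.toOrderEmbedding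
    (by
      rw [show Set.range (PrimeSpectrum.comapEquiv e.toRingEquiv).symm.toOrderEmbedding = Set.univ from
        Set.range_eq_univ.2 (PrimeSpectrum.comapEquiv e.toRingEquiv).symm.surjective]
      exact Set.ordConnected_univ) (Groth.L03.Catenary.isCatenary_quotient _ hP)

end Groth.L10.FormCat
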