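import Groth.Agent.L10.FormCat.Formal
import Groth.Agent.L05.Henselization.Fibres
import Groth.Agent.L05.Henselization.StrictUniq
import Mathlib.RingTheory.TensorProduct.Quotient
import Mathlib.RingTheory.Ideal.AssociatedPrime.Localization

/-!
The henselization of a (strictly) formally catenary local ring is (strictly) formally catenary.
-/

set_option autoImplicit false
set_option linter.all false

universe u

open IsLocalRing

namespace Groth.L10.FormCat

/-- the completion of a henselization is the completion of the ring -/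
theorem exists_cpl_hens_equiv (R S : Type u) [CommRing R] [IsLocalRing R] [IsNoetherianRing R]
    [CommRing S] [IsLocalRing S] [IsNoetherianRing S] [Algebra R S] [IsLocalHom (algebraMap R S)]
    [Hensel.IsHenselization R S] :
    ∃ e : AdicCompletion (maximalIdeal R) R ≃+* AdicCompletion (maximalIdeal S) S,
      ∀ r, e (algebraMap R _ r) = algebraMap S _ (algebraMap R S r) := by
  haveI := Groth.L01.AnalUnram.isNoetherianRing_completion R
  haveI := Groth.L01.AnalUnram.isNoetherianRing_completion S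
  let C := AdicCompletion (maximalIdeal R) R
  let D := AdicCompletion (maximalIdeal S) S
  have hmS : (maximalIdeal R).map (algebraMap R S) = maximalIdeal S :=
    Groth.L05.Henselization.map_maximalIdeal_of_isHenselization R S
  have hb : ∀ n, Function.Bijective (Ideal.quotientMap ((maximalIdeal R ^ n).map (algebraMap R S))
      (algebraMap R S) Ideal.le_comap_map) := fun n =>
    Groth.L05.Henselization.quotientMap_pow_bijective R (maximalIdeal R)
      (Groth.L05.Henselization.isPairHenselization_of_isHenselization (S := S)) n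
  have hsurj : ∀ n (s : S), ∃ r : R, s - algebraMap R S r ∈ maximalIdeal S ^ n := fun n s => by
    obtain ⟨x, hx⟩ := (hb n).2 (Ideal.Quotient.mk _ s)
    obtain ⟨r, rfl⟩ := Ideal.Quotient.mk_surjective x
    rw [Ideal.quotientMap_mk, eq_comm, Ideal.Quotient.eq, Ideal.map_pow, hmS] at hx
    exact ⟨r, hx⟩
  have hinj : ∀ n (r : R), algebraMap R S r ∈ maximalIdeal S ^ n → r ∈ maximalIdeal R ^ n := fun n r hr => by
    rw [← Ideal.Quotient.eq_zero_iff_mem]
    refine (hb n).1 ?_
    rw [map_zero, Ideal.quotientMap_mk, Ideal.Quotient.eq_zero_iff_mem, Ideal.map_pow, hmS]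
    exact hr
  have hmC : maximalIdeal C = (maximalIdeal R).map (algebraMap R C) :=
    (Groth.L01.AnalUnram.completion_map_maximalIdeal R).symm
  have hmD : maximalIdeal D = (maximalIdeal S).map (algebraMap S D) :=
    (Groth.L01.AnalUnram.completion_map_maximalIdeal S).symm
  obtain ⟨g, hg, hgm⟩ := Groth.L01.CompletionExt.exists_extend (C := D) ((algebraMap S D).comp (algebraMap R S)) (by
    rw [← Ideal.map_map, hmS, ← hmD])
  haveI := Groth.L01.CompletionExt.faithfullyFlat S
  let fn : ∀ n, S →+* C ⧸ maximalIdeal C ^ n := fun n =>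
    ((Ideal.quotientMap (maximalIdeal C ^ n) (algebraMap R C) (by
      rw [← Ideal.map_le_iff_le_comap, Ideal.map_pow, ← hmC] :
      maximalIdeal R ^ n ≤ (maximalIdeal C ^ n).comap (algebraMap R C))).comp
      (RingEquiv.ofBijective _ (hb n)).symm.toRingHom).comp (Ideal.Quotient.mk _)
  have hfn : ∀ n (s : S) (r : R), s - algebraMap R S r ∈ maximalIdeal S ^ n →
      fn n s = Ideal.Quotient.mk _ (algebraMap R C r) := by
    intro n s r hr
    have h1 : Ideal.Quotient.mk ((maximalIdeal R ^ n).map (algebraMap R S)) s =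
        RingEquiv.ofBijective _ (hb n) (Ideal.Quotient.mk _ r) := by
      rw [RingEquiv.ofBijective_apply, Ideal.quotientMap_mk, Ideal.Quotient.eq, Ideal.map_pow, hmS]
      exact hr
    simp only [fn, RingHom.comp_apply, RingEquiv.toRingHom_eq_coe, RingEquiv.coe_toRingHom]
    rw [h1, RingEquiv.symm_apply_apply, Ideal.quotientMap_mk]
  have hcomp : ∀ {m n : ℕ} (hle : m ≤ n), (Ideal.Quotient.factorPow (maximalIdeal C) hle).comp (fn n) = fn m := by
    intro m n hle
    ext s
    obtain ⟨r, hr⟩ := hsurj n s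
    rw [RingHom.comp_apply, hfn n s r hr, hfn m s r (Ideal.pow_le_pow_right hle hr), Ideal.Quotient.factor_mk]
  let h₀ : S →+* C := IsAdicComplete.liftRingHom (maximalIdeal C) fn hcomp
  have hh₀ : ∀ n s r, s - algebraMap R S r ∈ maximalIdeal S ^ n → h₀ s - algebraMap R C r ∈ maximalIdeal C ^ n :=
    fun n s r hr => by
      rw [← Ideal.Quotient.eq, IsAdicComplete.mk_liftRingHom]
      exact hfn n s r hr
  have hh₀R : ∀ r, h₀ (algebraMap R S r) = algebraMap R C r := fun r => by
    rw [← sub_eq_zero]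
    refine IsHausdorff.haus (I := maximalIdeal C) inferInstance _ fun n => ?_
    rw [SModEq.zero, smul_eq_mul, Ideal.mul_top]
    exact hh₀ n _ r (by simp)
  obtain ⟨h, hh, hhm⟩ := Groth.L01.CompletionExt.exists_extend (C := C) h₀ (by
    rw [← hmS, Ideal.map_map, hmC]
    refine le_of_eq (congrArg (fun f => Ideal.map f (maximalIdeal R)) (RingHom.ext hh₀R)))
  have h1 : h.comp g = RingHom.id C := by
    refine Groth.L01.CompletionExt.ext_of_hausdorff _ _ ?_ (Ideal.map_id _).le fun r => ?_
    · rw [← Ideal.map_map]; exact (Ideal.map_mono hgm).trans hhm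
    · rw [RingHom.comp_apply, hg, RingHom.comp_apply, hh, hh₀R]; rfl
  have h2 : g.comp h = RingHom.id D := by
    refine Groth.L01.CompletionExt.ext_of_hausdorff _ _ ?_ (Ideal.map_id _).le fun s => ?_
    · rw [← Ideal.map_map]; exact (Ideal.map_mono hhm).trans hgm
    · rw [RingHom.comp_apply, hh, RingHom.id_apply, ← sub_eq_zero]
      refine IsHausdorff.haus (I := maximalIdeal D) inferInstance _ fun n => ?_
      rw [SModEq.zero, smul_eq_mul, Ideal.mul_top]
      obtain ⟨r, hr⟩ := hsurj n s
      have e1 : g (h₀ s - algebraMap R C r) ∈ maximalIdeal D ^ n :=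
        Ideal.pow_right_mono hgm n (by rw [← Ideal.map_pow]; exact Ideal.mem_map_of_mem _ (hh₀ n s r hr))
      have e2 : algebraMap S D (s - algebraMap R S r) ∈ maximalIdeal D ^ n := by
        rw [hmD, ← Ideal.map_pow]; exact Ideal.mem_map_of_mem _ hr
      rw [show g (h₀ s) - algebraMap S D s = g (h₀ s - algebraMap R C r) - algebraMap S D (s - algebraMap R S r) by
        rw [map_sub, map_sub, hg, RingHom.comp_apply]; ring]
      exact sub_mem e1 e2
  exact ⟨RingEquiv.ofRingHom g h h2 h1, hg⟩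

/-- division by a colon generator stays valid after a flat extension -/
theorem mul_mem_map_iff {S D : Type u} [CommRing S] [CommRing D] [Algebra S D] [Module.Flat S D]
    {P J : Ideal S} {t : S} (hJP : J ≤ P) (ht : ∀ x, t * x ∈ J ↔ x ∈ P) (x : D) :
    algebraMap S D t * x ∈ J.map (algebraMap S D) ↔ x ∈ P.map (algebraMap S D) := by
  constructor
  · intro hx
    let l : (S ⧸ P) →ₗ[S] S ⧸ J := P.mapQ J (LinearMap.mulLeft S t) fun y hy => (ht y).2 hy
    have hl : Function.Injective l := by
      rw [injective_iff_map_eq_zero]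
      intro y hy
      obtain ⟨y, rfl⟩ := Submodule.Quotient.mk_surjective P y
      have hy' : Submodule.Quotient.mk (p := J) (t * y) = 0 := hy
      rw [Submodule.Quotient.mk_eq_zero] at hy' ⊢
      exact (ht y).1 hy'
    have hi := Module.Flat.lTensor_preserves_injective_linearMap (M := D) l hl
    rw [← Ideal.Quotient.eq_zero_iff_mem]
    apply (Algebra.TensorProduct.quotIdealMapEquivTensorQuot D P).injective
    rw [map_zero, Algebra.TensorProduct.quotIdealMapEquivTensorQuot_mk]
    apply hi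
    rw [map_zero, LinearMap.lTensor_tmul]
    have h0 : Algebra.TensorProduct.quotIdealMapEquivTensorQuot D J
        (Ideal.Quotient.mk _ (algebraMap S D t * x)) = 0 := by
      rw [Ideal.Quotient.eq_zero_iff_mem.2 hx, map_zero]
    rw [Algebra.TensorProduct.quotIdealMapEquivTensorQuot_mk, ← Algebra.smul_def, TensorProduct.smul_tmul] at h0
    rw [← h0]
    congr 1
  · intro hx
    induction hx using Submodule.span_induction with
    | mem z hz =>
      obtain ⟨y, hy, rfl⟩ := hz
      rw [← map_mul]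
      exact Ideal.mem_map_of_mem _ ((ht y).2 hy)
    | zero => simp
    | add a b _ _ ha hb => rw [mul_add]; exact add_mem ha hb
    | smul a b _ hb => rw [smul_eq_mul, mul_left_comm]; exact Ideal.mul_mem_left _ _ hb

/-- minimal primes of `P D` are minimal over `J D` when `P = (J : t)`, `t ∉ P` -/
theorem minimalPrimes_map_of_colon {S D : Type u} [CommRing S] [CommRing D] [Algebra S D] [Module.Flat S D]
    {P J : Ideal S} {t : S} (hJP : J ≤ P) (ht : ∀ x, t * x ∈ J ↔ x ∈ P) (htP : t ∉ P) [P.IsPrime]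
    {Q : Ideal D} (hQ : Q ∈ (P.map (algebraMap S D)).minimalPrimes) :
    Q ∈ (J.map (algebraMap S D)).minimalPrimes := by
  haveI := hQ.1.1
  refine ⟨⟨hQ.1.1, (Ideal.map_mono hJP).trans hQ.1.2⟩, fun Q' ⟨hQ', hJ'⟩ hle => hQ.2 ⟨hQ', ?_⟩ hle⟩
  have htQ : algebraMap S D t ∉ Q := by
    intro htQ
    obtain ⟨p, hpQ, hp, hpo⟩ := Q.exists_ideal_le_liesOver_of_le (p := P) (q := Q.under S)
      (Ideal.map_le_iff_le_comap.1 hQ.1.2)
    have hPp : P.map (algebraMap S D) ≤ p := Ideal.map_le_iff_le_comap.2 hpo.over.le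
    have heq : p = Q := le_antisymm hpQ (hQ.2 ⟨hp, hPp⟩ hpQ)
    subst heq
    exact htP (hpo.over ▸ htQ)
  rw [Ideal.map_le_iff_le_comap]
  intro y hy
  refine (hQ'.mem_or_mem ?_).resolve_left fun h => htQ (hle h)
  rw [← map_mul]
  exact hJ' (Ideal.mem_map_of_mem _ ((ht y).2 hy))

/-- the ring and module notions of associated prime of a quotient ring agree -/
theorem comap_mem_associatedPrimes_quotient {D : Type u} [CommRing D] [IsNoetherianRing D] {I : Ideal D}
    {p : Ideal (D ⧸ I)} (hp : p ∈ associatedPrimes (D ⧸ I) (D ⧸ I)) :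
    p.comap (Ideal.Quotient.mk I) ∈ associatedPrimes D (D ⧸ I) := by
  obtain ⟨hpp, x, hx⟩ := isAssociatedPrime_iff.1 hp
  haveI := hpp
  refine isAssociatedPrime_iff.2 ⟨inferInstance, x, ?_⟩
  ext d
  rw [Ideal.mem_comap, hx, Submodule.mem_colon_singleton, Submodule.mem_colon_singleton]
  rfl

theorem mk_comap_mem_associatedPrimes {D : Type u} [CommRing D] [IsNoetherianRing D] {I Q : Ideal D}
    (hQ : Q ∈ associatedPrimes D (D ⧸ I)) :
    Q.map (Ideal.Quotient.mk I) ∈ associatedPrimes (D ⧸ I) (D ⧸ I) ∧ I ≤ Q := by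
  obtain ⟨hQp, x, hx⟩ := isAssociatedPrime_iff.1 hQ
  have hIQ : I ≤ Q := by
    intro a ha
    rw [hx, Submodule.mem_colon_singleton]
    simp [Algebra.smul_def, Ideal.Quotient.eq_zero_iff_mem.mpr ha]
  haveI := hQp
  refine ⟨isAssociatedPrime_iff.2 ⟨Ideal.map_isPrime_of_surjective Ideal.Quotient.mk_surjective
    (Ideal.mk_ker.le.trans hIQ), x, ?_⟩, hIQ⟩
  ext d
  obtain ⟨d, rfl⟩ := Ideal.Quotient.mk_surjective d
  rw [← Ideal.mem_comap, Ideal.comap_map_of_surjective _ Ideal.Quotient.mk_surjective, ← RingHom.ker_eq_comap_bot,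
    Ideal.mk_ker, sup_eq_left.2 hIQ, hx, Submodule.mem_colon_singleton, Submodule.mem_colon_singleton]
  rfl

/-- strictly equidimensional in terms of module associated primes -/
theorem dim_of_strictlyEquidim {D : Type u} [CommRing D] [IsNoetherianRing D] {I Q : Ideal D}
    (h : EGA4.IsStrictlyEquidim (D ⧸ I)) (hQ : Q ∈ associatedPrimes D (D ⧸ I)) :
    ringKrullDim (D ⧸ Q) = ringKrullDim (D ⧸ I) := by
  obtain ⟨h1, h2⟩ := mk_comap_mem_associatedPrimes hQ
  rw [← h _ h1]
  exact (ringKrullDim_eq_of_ringEquiv (DoubleQuot.quotQuotEquivQuotOfLE h2)).symm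

/-- minimal primes of a quotient, seen in the ring -/
theorem dim_of_equidim {D : Type u} [CommRing D] {I Q : Ideal D}
    (h : EGA4.IsEquidim (D ⧸ I)) (hQ : Q ∈ I.minimalPrimes) :
    ringKrullDim (D ⧸ Q) = ringKrullDim (D ⧸ I) := by
  have h1 : Q.map (Ideal.Quotient.mk I) ∈ minimalPrimes (D ⧸ I) := by
    have h2 := hQ
    rw [← Ideal.mk_ker (I := I), RingHom.ker_eq_comap_bot,
      Ideal.comap_minimalPrimes_eq_of_surjective Ideal.Quotient.mk_surjective] at h2
    obtain ⟨q, hq, hqQ⟩ := h2
    rw [← hqQ, Ideal.map_comap_of_surjective _ Ideal.Quotient.mk_surjective]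
    exact hq
  rw [← h _ h1]
  exact (ringKrullDim_eq_of_ringEquiv (DoubleQuot.quotQuotEquivQuotOfLE hQ.1.2)).symm

theorem equidim_of_forall {D : Type u} [CommRing D] {I : Ideal D} (d : WithBot ℕ∞) (hI : I ≠ ⊤)
    (h : ∀ Q ∈ I.minimalPrimes, ringKrullDim (D ⧸ Q) = d) : ringKrullDim (D ⧸ I) = d ∧ EGA4.IsEquidim (D ⧸ I) := by
  haveI := Ideal.Quotient.nontrivial_iff.2 hI
  have key : ∀ q ∈ minimalPrimes (D ⧸ I), ringKrullDim ((D ⧸ I) ⧸ q) = d := by
    intro q hq
    have hQ : q.comap (Ideal.Quotient.mk I) ∈ I.minimalPrimes := by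
      have h2 : q.comap (Ideal.Quotient.mk I) ∈ ((⊥ : Ideal (D ⧸ I)).comap (Ideal.Quotient.mk I)).minimalPrimes := by
        rw [Ideal.comap_minimalPrimes_eq_of_surjective Ideal.Quotient.mk_surjective]
        exact ⟨q, hq, rfl⟩
      rwa [← RingHom.ker_eq_comap_bot, Ideal.mk_ker] at h2
    rw [← h _ hQ, ringKrullDim_eq_of_ringEquiv (DoubleQuot.quotQuotEquivQuotOfLE hQ.1.2).symm,
      Ideal.map_comap_of_surjective _ Ideal.Quotient.mk_surjective]
  have hd : ringKrullDim (D ⧸ I) = d := by
    refine le_antisymm ?_ ?_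
    · rw [ringKrullDim, Order.krullDim]
      refine iSup_le fun l => ?_
      obtain ⟨q, hq, hql⟩ := Ideal.exists_minimalPrimes_le (bot_le : (⊥ : Ideal (D ⧸ I)) ≤ (l.head).asIdeal)
      rw [← key q hq, ringKrullDim_quotient]
      exact Order.LTSeries.length_le_krullDim (α := PrimeSpectrum.zeroLocus (q : Set (D ⧸ I)))
        { length := l.length
          toFun := fun i => ⟨l i, fun y hy => (l.head_le i) (hql hy)⟩
          step := fun i => l.step i }
    · obtain ⟨q, hq⟩ := Ideal.nonempty_minimalPrimes (bot_ne_top : (⊥ : Ideal (D ⧸ I)) ≠ ⊤)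
      rw [← key q hq]
      exact ringKrullDim_quotient_le q
  exact ⟨hd, fun q hq => (key q hq).trans hd.symm⟩

/-- the two quotient completions and the colon data at a prime of the henselization -/
theorem hens_data (R S : Type u) [CommRing R] [IsLocalRing R] [IsNoetherianRing R]
    [CommRing S] [IsLocalRing S] [Algebra R S] [IsLocalHom (algebraMap R S)]
    [Hensel.IsHenselization R S] (P : Ideal S) [P.IsPrime] :
    ∃ (_ : IsNoetherianRing S) (J : Ideal S) (t : S),
      J ≤ P ∧ t ∉ P ∧ (∀ x, t * x ∈ J ↔ x ∈ P) ∧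
      Nonempty ((EGA4.Cpl S ⧸ P.map (algebraMap S (EGA4.Cpl S))) ≃+* EGA4.Cpl (S ⧸ P)) ∧
      Nonempty ((EGA4.Cpl S ⧸ J.map (algebraMap S (EGA4.Cpl S))) ≃+* EGA4.Cpl (R ⧸ P.comap (algebraMap R S))) := by
  haveI := Groth.L05.Henselization.flat_of_isHenselization R S
  haveI : Module.FaithfullyFlat R S := Groth.L05.Henselization.faithfullyFlat_of_flat_local
  haveI : IsNoetherianRing S := (Groth.L05.Henselization.isNoetherianRing_iff_hens R S).mp inferInstance
  let q := P.comap (algebraMap R S)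
  let J := q.map (algebraMap R S)
  have hred := Groth.L05.Henselization.hasReducedPointFibres_hens R S P inferInstance
  choose u hu hux using hred
  obtain ⟨w, hw⟩ := (isNoetherianRing_iff_ideal_fg S).1 inferInstance P
  have hwP : ∀ x ∈ w, x ∈ P := fun x hx => hw ▸ Ideal.subset_span hx
  let t := ∏ x ∈ w.attach, u x.1 (hwP x.1 x.2)
  have htP : t ∉ P := fun h => by
    obtain ⟨x, -, hx⟩ := (Ideal.IsPrime.prod_mem_iff).1 h
    exact hu _ _ hx
  have hJP : J ≤ P := Ideal.map_comap_le
  refine ⟨inferInstance, J, t, hJP, htP, fun x => ⟨fun hx =>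
    (Ideal.IsPrime.mem_or_mem ‹_› (hJP hx)).resolve_left htP, fun hx => ?_⟩, ?_, ?_⟩
  · rw [← hw] at hx
    induction hx using Submodule.span_induction with
    | mem y hy =>
      obtain ⟨c, hc⟩ := Finset.dvd_prod_of_mem (fun z : {z // z ∈ w} => u z.1 (hwP z.1 z.2))
        (Finset.mem_attach w ⟨y, hy⟩)
      rw [show t * y = c * (u y (hwP y hy) * y) by
        show (∏ z ∈ w.attach, _) * y = _
        rw [hc]; ring]
      exact Ideal.mul_mem_left _ _ (hux y (hwP y hy))
    | zero => simp
    | add a b _ _ ha hb => rw [mul_add]; exact add_mem ha hb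
    | smul a b _ hb => rw [smul_eq_mul, mul_left_comm]; exact Ideal.mul_mem_left _ _ hb
  · obtain ⟨e⟩ := Groth.L07.RegQuot.exists_completionQuotEquiv (Ideal.Quotient.mk P) Ideal.Quotient.mk_surjective
    exact ⟨(Ideal.quotEquivOfEq (by rw [Ideal.mk_ker])).trans e⟩
  · obtain ⟨e⟩ := Groth.L07.RegQuot.exists_completionQuotEquiv (Ideal.Quotient.mk q) Ideal.Quotient.mk_surjective
    obtain ⟨E, hE⟩ := exists_cpl_hens_equiv R S
    refine ⟨(Ideal.quotientEquiv _ _ E ?_).symm.trans e⟩
    rw [Ideal.mk_ker, Ideal.map_map, Ideal.map_map]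
    exact congrArg (fun f => Ideal.map f q) (RingHom.ext fun r => (hE r).symm)

theorem hens_formallyCatenary (R S : Type u) [CommRing R] [IsLocalRing R] [IsNoetherianRing R]
    [CommRing S] [IsLocalRing S] [Algebra R S] [IsLocalHom (algebraMap R S)]
    [Hensel.IsHenselization R S] (h : EGA4.IsFormallyCatenary R) : EGA4.IsFormallyCatenary S := by
  intro P _
  obtain ⟨_, J, t, hJP, htP, ht, ⟨e1⟩, ⟨e2⟩⟩ := hens_data R S P
  haveI := Groth.L01.CompletionExt.faithfullyFlat S
  haveI : IsNoetherianRing (EGA4.Cpl S) := Groth.L01.AnalUnram.isNoetherianRing_completion S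
  have h2 : EGA4.IsEquidim (EGA4.Cpl S ⧸ J.map (algebraMap S (EGA4.Cpl S))) :=
    isEquidim_of_ringEquiv e2.symm (h _)
  exact isEquidim_of_ringEquiv e1 (equidim_of_forall _
    (map_ne_top (B := EGA4.Cpl S) (Ideal.IsPrime.ne_top inferInstance)) fun Q hQ =>
      dim_of_equidim h2 (minimalPrimes_map_of_colon hJP ht htP hQ)).2

theorem isStrictlyEquidim_of_ringEquiv {R R' : Type u} [CommRing R] [CommRing R'] [IsNoetherianRing R]
    [IsNoetherianRing R'] (e : R ≃+* R')
    (h : EGA4.IsStrictlyEquidim R) : EGA4.IsStrictlyEquidim R' := by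
  intro p hp
  obtain ⟨hpp, x, hx⟩ := isAssociatedPrime_iff.1 hp
  haveI := hpp
  have hq : p.comap (e : R →+* R') ∈ associatedPrimes R R := by
    refine isAssociatedPrime_iff.2 ⟨inferInstance, e.symm x, ?_⟩
    ext a
    rw [Ideal.mem_comap, hx, Submodule.mem_colon_singleton, Submodule.mem_colon_singleton, smul_eq_mul,
      smul_eq_mul, Submodule.mem_bot, Submodule.mem_bot]
    constructor
    · intro ha
      apply e.injective
      simpa using ha
    · intro ha
      simpa using congrArg e ha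
  rw [← ringKrullDim_eq_of_ringEquiv e, ← h _ hq]
  exact (ringKrullDim_eq_of_ringEquiv (Ideal.quotientEquiv _ p e
    (Ideal.map_comap_of_surjective (e : R →+* R') e.surjective p).symm)).symm

theorem hens_formallyStrictlyCatenary (R S : Type u) [CommRing R] [IsLocalRing R] [IsNoetherianRing R]
    [CommRing S] [IsLocalRing S] [Algebra R S] [IsLocalHom (algebraMap R S)]
    [Hensel.IsHenselization R S] (h : EGA4.IsFormallyStrictlyCatenary R) :
    EGA4.IsFormallyStrictlyCatenary S := by
  intro P _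
  obtain ⟨_, J, t, hJP, htP, ht, ⟨e1⟩, ⟨e2⟩⟩ := hens_data R S P
  haveI := Groth.L01.CompletionExt.faithfullyFlat S
  haveI := Groth.L01.AnalUnram.isNoetherianRing_completion S
  haveI : IsNoetherianRing (EGA4.Cpl (R ⧸ P.comap (algebraMap R S))) :=
    Groth.L01.AnalUnram.isNoetherianRing_completion _
  haveI : IsNoetherianRing (EGA4.Cpl (S ⧸ P)) := Groth.L01.AnalUnram.isNoetherianRing_completion _
  let D := EGA4.Cpl S
  haveI : IsNoetherianRing D := Groth.L01.AnalUnram.isNoetherianRing_completion S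
  let I := P.map (algebraMap S D)
  let I' := J.map (algebraMap S D)
  have h2 : EGA4.IsStrictlyEquidim (D ⧸ I') := isStrictlyEquidim_of_ringEquiv e2.symm (h _)
  let l : (D ⧸ I) →ₗ[D] D ⧸ I' :=
    I.mapQ I' (LinearMap.mulLeft D (algebraMap S D t)) fun y hy => (mul_mem_map_iff hJP ht y).2 hy
  have hl : Function.Injective l := by
    rw [injective_iff_map_eq_zero]
    intro y hy
    obtain ⟨y, rfl⟩ := Submodule.Quotient.mk_surjective I y
    have hy' : Submodule.Quotient.mk (p := I') (algebraMap S D t * y) = 0 := hy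
    rw [Submodule.Quotient.mk_eq_zero] at hy' ⊢
    exact (mul_mem_map_iff hJP ht y).1 hy'
  have hass : ∀ Q ∈ associatedPrimes D (D ⧸ I), ringKrullDim (D ⧸ Q) = ringKrullDim (D ⧸ I') := fun Q hQ =>
    dim_of_strictlyEquidim h2 (associatedPrimes.subset_of_injective hl hQ)
  have hd : ringKrullDim (D ⧸ I) = ringKrullDim (D ⧸ I') := by
    refine (equidim_of_forall _ (map_ne_top (B := D) (Ideal.IsPrime.ne_top inferInstance)) fun Q hQ => hass Q ?_).1
    refine Module.associatedPrimes.minimalPrimes_annihilator_subset_associatedPrimes D (D ⧸ I) ?_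
    rwa [Ideal.annihilator_quotient]
  refine isStrictlyEquidim_of_ringEquiv e1 fun p hp => ?_
  haveI := hp.1
  have hIp : I ≤ p.comap (Ideal.Quotient.mk I) := fun y hy => by
    rw [Ideal.mem_comap, Ideal.Quotient.eq_zero_iff_mem.2 hy]; exact zero_mem _
  have hh := ringKrullDim_eq_of_ringEquiv (DoubleQuot.quotQuotEquivQuotOfLE hIp)
  rw [Ideal.map_comap_of_surjective _ Ideal.Quotient.mk_surjective] at hh
  rw [hh, hd]
  exact hass _ (comap_mem_associatedPrimes_quotient hp)

end Groth.L10.FormCat
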