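import Groth.Agent.S9128
import Groth.Agent.S0603
import Groth.Agent.L06.FlatFibre
import Groth.Agent.L22.DimFormula
import Groth.Agent.L01.CompletionReg
import Groth.Agent.L07.RegularQuotient
import Groth.Agent.L22.DimFormulaScheme
import Groth.Prelude.Def_EGA4b

/-!
Equidimensional catenary local rings: height formula, descent along flat local maps, formal equidimensionality.
-/

set_option autoImplicit false
set_option linter.all false

universe u

open IsLocalRing

namespace Groth.L10.FormCat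

variable {A : Type u} [CommRing A]

/-- `dim A/p` as a natural number. -/
noncomputable def qd (p : PrimeSpectrum A) : ℕ := (Order.coheight p).toNat

variable [IsNoetherianRing A] [IsLocalRing A]

theorem dim_quot (p : PrimeSpectrum A) :
    ringKrullDim (A ⧸ p.asIdeal) = ((qd p : ℕ∞) : WithBot ℕ∞) := by
  have h1 : (Order.coheight p : WithBot ℕ∞) < ⊤ :=
    (Order.coheight_le_krullDim p).trans_lt ringKrullDim_lt_top
  have h2 : Order.coheight p ≠ ⊤ := (WithBot.coe_lt_coe.1 h1).ne
  rw [qd, ENat.natCast_toNat h2, ringKrullDim_quotient, Order.coheight_eq_krullDim_Ici]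
  exact Order.krullDim_eq_of_orderIso (OrderIso.setCongr _ _ (Set.ext fun q => Iff.rfl))

theorem qd_eq_iff (p : PrimeSpectrum A) (n : ℕ) :
    ringKrullDim (A ⧸ p.asIdeal) = (n : WithBot ℕ∞) ↔ qd p = n := by
  rw [dim_quot]
  exact ⟨fun h => by exact_mod_cast h, fun h => by rw [h]; rfl⟩

theorem covBy_step (hc : CAlg.IsCatenary A) {p q : PrimeSpectrum A} (h : p ⋖ q) : qd p = qd q + 1 := by
  have := ((Groth.Agent.S9128.result A).1 hc p q h.lt).2 h
  rw [dim_quot, dim_quot] at this
  exact_mod_cast this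

theorem series_eq (hc : CAlg.IsCatenary A) (s : LTSeries (PrimeSpectrum A))
    (hs : ∀ i : Fin s.length, s (Fin.castSucc i) ⋖ s i.succ) : qd s.last + s.length = qd s.head := by
  have : ∀ i : Fin (s.length + 1), qd (s i) + i = qd s.head := by
    intro i
    induction i using Fin.induction with
    | zero => simp [RelSeries.head]
    | succ j ih =>
      have := covBy_step hc (hs j)
      simp only [Fin.val_succ, Fin.val_castSucc] at ih ⊢
      omega
  simpa [RelSeries.last] using this (Fin.last _)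

theorem qd_minimal (he : EGA4.IsEquidim A) {n : ℕ} (hn : ringKrullDim A = n) (p : PrimeSpectrum A)
    (hp : p.asIdeal ∈ minimalPrimes A) : qd p = n :=
  (qd_eq_iff p n).1 ((he _ hp).trans hn)

theorem height_add (hc : CAlg.IsCatenary A) (he : EGA4.IsEquidim A) {n : ℕ} (hn : ringKrullDim A = n)
    (p : PrimeSpectrum A) : p.asIdeal.height + (qd p : ℕ∞) = (n : ℕ∞) := by
  haveI := p.isPrime
  obtain ⟨s, hsl, hsn⟩ := p.asIdeal.exists_ltSeries_length_eq_height
  obtain ⟨hmin, hcov⟩ := Groth.L22.DimFormula.covBy_of_length_eq_height (s := s) (by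
    rw [hsn, hsl]; exact PrimeSpectrum.height_eq_orderHeight ⟨_, _⟩)
  have h := series_eq hc s hcov
  rw [qd_minimal he hn s.head (PrimeSpectrum.isMin_iff.1 hmin), hsl] at h
  rw [← hsn]
  exact_mod_cast (show s.length + qd p = n by rw [← h]; exact Nat.add_comm _ _)

section Flat

variable {B : Type u} [CommRing B] [IsNoetherianRing B] [IsLocalRing B] [Algebra A B]
  [IsLocalHom (algebraMap A B)] [Module.Flat A B]

omit [IsLocalRing A] [IsLocalHom (algebraMap A B)] [IsLocalRing B] in
/-- a prime minimal over `pB` lies over `p` and has the height of `p` -/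
theorem minimal_over {p : Ideal A} [p.IsPrime] {P : Ideal B} (hP : P ∈ (p.map (algebraMap A B)).minimalPrimes) :
    P.LiesOver p ∧ P.height = p.height := by
  haveI := hP.isPrime
  have hlo : P.LiesOver p := by
    refine ⟨le_antisymm (Ideal.map_le_iff_le_comap.1 hP.le) ?_⟩
    by_contra hne
    haveI : P.LiesOver (P.under A) := ⟨rfl⟩
    obtain ⟨Q, hQ, hQp, hQo⟩ := P.exists_ideal_le_liesOver_of_le (p := p) (q := P.under A)
      (Ideal.map_le_iff_le_comap.1 hP.le)
    have := hP.2 ⟨hQp, Ideal.map_le_iff_le_comap.2 hQo.over.le⟩ hQ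
    exact hne (le_of_le_of_eq (Ideal.comap_mono this) hQo.over.symm)
  haveI := hlo
  refine ⟨hlo, ?_⟩
  rw [Ideal.height_eq_height_add_of_liesOver_of_hasGoingDown p P]
  convert add_zero _
  haveI : (P.map (Ideal.Quotient.mk (p.map (algebraMap A B)))).IsPrime :=
    Ideal.map_isPrime_of_surjective Ideal.Quotient.mk_surjective (by rw [Ideal.mk_ker]; exact hP.le)
  rw [Ideal.height_eq_zero_iff]
  refine ⟨⟨inferInstance, bot_le⟩, fun Q ⟨hQ, _⟩ hQP => ?_⟩
  haveI := hQ
  have hle : Q.comap (Ideal.Quotient.mk _) ≤ P := (Ideal.comap_mono hQP).trans_eq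
    (Ideal.comap_map_mk hP.le)
  have hge : p.map (algebraMap A B) ≤ Q.comap (Ideal.Quotient.mk _) := fun x hx => by
    rw [Ideal.mem_comap, Ideal.Quotient.eq_zero_iff_mem.2 hx]; exact zero_mem _
  have h := hP.2 ⟨inferInstance, hge⟩ hle
  refine (Ideal.map_mono h).trans ?_
  rw [Ideal.map_comap_of_surjective _ Ideal.Quotient.mk_surjective]

theorem exists_minimal_over (p : Ideal A) [p.IsPrime] :
    ∃ P : Ideal B, P ∈ (p.map (algebraMap A B)).minimalPrimes := by
  obtain ⟨P, hP, -⟩ := Ideal.exists_minimalPrimes_le (J := maximalIdeal B)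
    ((Ideal.map_mono (le_maximalIdeal (Ideal.IsPrime.ne_top ‹_›))).trans (IsLocalRing.map_maximalIdeal_le (algebraMap A B)))
  exact ⟨P, hP⟩

omit [Module.Flat A B] in
theorem map_ne_top {a : Ideal A} (ha : a ≠ ⊤) : a.map (algebraMap A B) ≠ ⊤ :=
  ne_top_of_le_ne_top (maximalIdeal.isMaximal B).ne_top
    ((Ideal.map_mono (le_maximalIdeal ha)).trans (IsLocalRing.map_maximalIdeal_le (algebraMap A B)))

theorem dim_add_fib {a : Ideal A} (ha : a ≠ ⊤) :
    ringKrullDim (B ⧸ a.map (algebraMap A B)) = ringKrullDim (A ⧸ a) + ringKrullDim (EGA4.FibRing A B) := by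
  haveI := Groth.L01.isLocalRing_quotient ha
  haveI := Groth.L01.isLocalRing_quotient (map_ne_top (B := B) ha)
  set C := B ⧸ a.map (algebraMap A B)
  letI : Algebra (A ⧸ a) C := Ideal.Quotient.algebraQuotientOfLEComap Ideal.le_comap_map
  haveI : IsScalarTower A (A ⧸ a) C := IsScalarTower.of_algebraMap_eq fun x => rfl
  haveI : Module.Flat (A ⧸ a) C := Module.Flat.of_linearEquiv
    (M := TensorProduct A (A ⧸ a) B)
    ((Algebra.TensorProduct.quotIdealMapEquivQuotTensor B a).toLinearEquiv.restrictScalars (A ⧸ a))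
  haveI : IsLocalHom (Ideal.Quotient.mk (a.map (algebraMap A B))) := IsLocalHom.of_surjective _ Ideal.Quotient.mk_surjective
  haveI : IsLocalHom (algebraMap (A ⧸ a) C) := ⟨fun x hx => by
    obtain ⟨x, rfl⟩ := Ideal.Quotient.mk_surjective x
    refine IsUnit.map _ (isUnit_of_map_unit (algebraMap A B) x ?_)
    exact isUnit_of_map_unit (Ideal.Quotient.mk (a.map (algebraMap A B))) _ hx⟩
  rw [Groth.L06.FlatFibre.ringKrullDim_eq (A ⧸ a) C]
  congr 1
  unfold EGA4.FibRing EGA4.mB
  refine ringKrullDim_eq_of_ringEquiv ?_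
  have h1 : (maximalIdeal (A ⧸ a)).map (algebraMap (A ⧸ a) C) =
      ((maximalIdeal A).map (algebraMap A B)).map (Ideal.Quotient.mk _) := by
    rw [← IsLocalRing.map_maximalIdeal_of_surjective (Ideal.Quotient.mk a) Ideal.Quotient.mk_surjective,
      Ideal.map_map, Ideal.map_map]
    rfl
  exact (Ideal.quotEquivOfEq h1).trans
    (DoubleQuot.quotQuotEquivQuotOfLE (Ideal.map_mono (le_maximalIdeal ha)))

variable (A B) in
theorem exists_nat_dims : ∃ (m n f : ℕ), ringKrullDim A = m ∧ ringKrullDim B = n ∧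
    ringKrullDim (EGA4.FibRing A B) = f ∧ n = m + f := by
  obtain ⟨m, hm⟩ := Groth.L01.exists_dim_eq_nat (R := A)
  obtain ⟨n, hn⟩ := Groth.L01.exists_dim_eq_nat (R := B)
  haveI : IsLocalRing (EGA4.FibRing A B) := Groth.L01.isLocalRing_quotient (map_ne_top (maximalIdeal.isMaximal A).ne_top)
  obtain ⟨f, hf⟩ := Groth.L01.exists_dim_eq_nat (R := EGA4.FibRing A B)
  refine ⟨m, n, f, hm, hn, hf, ?_⟩
  have := Groth.L06.FlatFibre.ringKrullDim_eq A B
  rw [hm, hn, hf] at this
  exact_mod_cast this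

theorem dim_map_prime (hc : CAlg.IsCatenary B) (he : EGA4.IsEquidim B) (p : Ideal A) [p.IsPrime] {n : ℕ}
    (hn : ringKrullDim B = n) : ∃ h d : ℕ, p.height = h ∧
      ringKrullDim (B ⧸ p.map (algebraMap A B)) = d ∧ h + d = n := by
  haveI := Groth.L01.isLocalRing_quotient (map_ne_top (B := B) (Ideal.IsPrime.ne_top ‹p.IsPrime›))
  obtain ⟨d, hd⟩ := Groth.L01.exists_dim_eq_nat (R := B ⧸ p.map (algebraMap A B))
  obtain ⟨h, hh⟩ := ENat.ne_top_iff_exists.1 (Ideal.height_ne_top (Ideal.IsPrime.ne_top ‹p.IsPrime›))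
  refine ⟨h, d, hh.symm, hd, ?_⟩
  have key : ∀ P ∈ (p.map (algebraMap A B)).minimalPrimes, ∀ q : PrimeSpectrum B, q.asIdeal = P → h + qd q = n := by
    intro P hP q hq
    have := height_add hc he hn q
    rw [hq, (minimal_over hP).2, ← hh] at this
    exact_mod_cast this
  obtain ⟨P, hP⟩ := exists_minimal_over (B := B) p
  haveI := hP.isPrime
  have h1 := key P hP ⟨P, inferInstance⟩ rfl
  have hge : qd (⟨P, inferInstance⟩ : PrimeSpectrum B) ≤ d := by
    have := ringKrullDim_le_of_surjective (Ideal.Quotient.factor hP.le) (Ideal.Quotient.factor_surjective hP.le)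
    rw [hd, dim_quot ⟨P, inferInstance⟩] at this
    exact_mod_cast this
  -- the maximum is attained at a minimal prime over the ideal
  obtain ⟨P', q, ⟨hq1, hq2⟩, hq3⟩ : ∃ (P' : Ideal B) (q : PrimeSpectrum B), (P' ∈ (p.map (algebraMap A B)).minimalPrimes ∧
      q.asIdeal = P') ∧ d ≤ qd q := by
    have hd' : (d : WithBot ℕ∞) ≤ Order.krullDim (PrimeSpectrum (B ⧸ p.map (algebraMap A B))) := hd.ge
    obtain ⟨s, hs⟩ := Order.le_krullDim_iff.1 hd'
    obtain ⟨P', hP', hle⟩ := Ideal.exists_minimalPrimes_le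
      (J := s.head.asIdeal.comap (Ideal.Quotient.mk (p.map (algebraMap A B))))
      (fun x hx => by rw [Ideal.mem_comap, Ideal.Quotient.eq_zero_iff_mem.2 hx]; exact zero_mem _)
    refine ⟨P', ⟨P', hP'.isPrime⟩, ⟨hP', rfl⟩, ?_⟩
    let t := s.map _ (RingHom.strictMono_comap_of_surjective (f := Ideal.Quotient.mk (p.map (algebraMap A B)))
      Ideal.Quotient.mk_surjective)
    have h2 : (⟨P', hP'.isPrime⟩ : PrimeSpectrum B) ≤ t.head := hle
    have h3 : (t.length : ℕ∞) ≤ Order.coheight (⟨P', hP'.isPrime⟩ : PrimeSpectrum B) :=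
      Order.length_le_coheight h2
    have h4 := dim_quot (⟨P', hP'.isPrime⟩ : PrimeSpectrum B)
    have h5 : Order.coheight (⟨P', hP'.isPrime⟩ : PrimeSpectrum B) ≠ ⊤ :=
      (WithBot.coe_lt_coe.1 ((Order.coheight_le_krullDim _).trans_lt
        (ringKrullDim_lt_top (R := B)))).ne
    rw [← ENat.natCast_toNat h5] at h3
    have : t.length = d := hs
    rw [this] at h3
    exact_mod_cast h3
  have := key _ hq1 _ hq2
  omega

/-- descent of equidimensionality and catenarity: the height formula -/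
theorem height_add_descent (hc : CAlg.IsCatenary B) (he : EGA4.IsEquidim B) {m : ℕ}
    (hm : ringKrullDim A = m) (p : PrimeSpectrum A) : p.asIdeal.height + (qd p : ℕ∞) = (m : ℕ∞) := by
  obtain ⟨m', n, f, hm', hn, hf, hmf⟩ := exists_nat_dims A B
  obtain rfl : m' = m := by rw [hm] at hm'; exact_mod_cast hm'.symm
  obtain ⟨h, d, hh, hd, hhd⟩ := dim_map_prime hc he p.asIdeal hn
  have := dim_add_fib (A := A) (B := B) p.isPrime.ne_top
  rw [hd, dim_quot p, hf] at this
  have h2 : d = qd p + f := by exact_mod_cast this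
  rw [hh]
  exact_mod_cast (show h + qd p = m' by omega)

omit [IsLocalRing B] in
theorem minimal_under {Q : Ideal B} (hQ : Q ∈ minimalPrimes B) : Q.under A ∈ minimalPrimes A := by
  haveI : Q.IsPrime := hQ.1.1
  haveI : Q.LiesOver (Q.under A) := ⟨rfl⟩
  refine ⟨⟨Ideal.IsPrime.comap _, bot_le⟩, fun p' ⟨hp', _⟩ hle => ?_⟩
  haveI := hp'
  obtain ⟨Q', hQ', hQ'p, hQ'o⟩ := Q.exists_ideal_le_liesOver_of_le (p := p') (q := Q.under A) hle
  have := hQ.2 ⟨hQ'p, bot_le⟩ hQ'
  exact le_of_le_of_eq (Ideal.comap_mono this) hQ'o.over.symm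

/-- EGA IV 7.1.3 -/
theorem equidim_catenary_descent (hc : CAlg.IsCatenary B) (he : EGA4.IsEquidim B) :
    EGA4.IsEquidim A ∧ CAlg.IsCatenary A := by
  obtain ⟨m, hm⟩ := Groth.L01.exists_dim_eq_nat (R := A)
  have H := height_add_descent (B := B) hc he hm
  constructor
  · intro p hp
    haveI := hp.1.1
    have := H ⟨p, hp.1.1⟩
    rw [show p.height = 0 from Ideal.height_eq_zero_iff.2 hp, zero_add] at this
    exact (dim_quot ⟨p, hp.1.1⟩).trans (by rw [this, hm]; rfl)
  · rw [Groth.Agent.S9128.result]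
    intro p q hpq
    haveI := p.isPrime
    haveI := q.isPrime
    haveI := Groth.L01.isLocalRing_quotient p.isPrime.ne_top
    haveI := Groth.L01.isLocalRing_quotient (map_ne_top (B := B) p.isPrime.ne_top)
    -- strictness
    have hlt : p.asIdeal.height < q.asIdeal.height := Ideal.height_strict_mono_of_isPrime_of_isPrime hpq
    obtain ⟨a, ha⟩ := ENat.ne_top_iff_exists.1 (Ideal.height_ne_top p.isPrime.ne_top)
    obtain ⟨b, hb⟩ := ENat.ne_top_iff_exists.1 (Ideal.height_ne_top q.isPrime.ne_top)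
    have h1 := H p
    have h2 := H q
    rw [← ha] at h1 hlt
    rw [← hb] at h2 hlt
    have h1' : a + qd p = m := by exact_mod_cast h1
    have h2' : b + qd q = m := by exact_mod_cast h2
    have hab : a < b := by exact_mod_cast hlt
    rw [dim_quot, dim_quot]
    refine ⟨by exact_mod_cast (show qd q < qd p by omega), fun hcov => ?_⟩
    -- pass to `A / p → B / pB`
    set Ap := A ⧸ p.asIdeal
    set C := B ⧸ p.asIdeal.map (algebraMap A B)
    letI : Algebra Ap C := Ideal.Quotient.algebraQuotientOfLEComap Ideal.le_comap_map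
    haveI : IsScalarTower A Ap C := IsScalarTower.of_algebraMap_eq fun x => rfl
    haveI : Module.Flat Ap C := Module.Flat.of_linearEquiv
      (M := TensorProduct A Ap B)
      ((Algebra.TensorProduct.quotIdealMapEquivQuotTensor B p.asIdeal).toLinearEquiv.restrictScalars Ap)
    haveI : IsLocalHom (Ideal.Quotient.mk (p.asIdeal.map (algebraMap A B))) := IsLocalHom.of_surjective _ Ideal.Quotient.mk_surjective
    haveI : IsLocalHom (algebraMap Ap C) := ⟨fun x hx => by
      obtain ⟨x, rfl⟩ := Ideal.Quotient.mk_surjective x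
      refine IsUnit.map _ (isUnit_of_map_unit (algebraMap A B) x ?_)
      exact isUnit_of_map_unit (Ideal.Quotient.mk (p.asIdeal.map (algebraMap A B))) _ hx⟩
    have hcC : CAlg.IsCatenary C := Groth.L03.Catenary.isCatenary_quotient _ hc
    have heC : EGA4.IsEquidim C := by
      obtain ⟨n, hn⟩ := Groth.L01.exists_dim_eq_nat (R := B)
      obtain ⟨h, d, hh, hd, hhd⟩ := dim_map_prime hc he p.asIdeal hn
      intro P hP
      haveI : P.IsPrime := hP.1.1
      let P' := P.comap (Ideal.Quotient.mk (p.asIdeal.map (algebraMap A B)))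
      have hP' : P' ∈ (p.asIdeal.map (algebraMap A B)).minimalPrimes := by
        rw [← Ideal.mk_ker (I := p.asIdeal.map (algebraMap A B)), RingHom.ker_eq_comap_bot,
          Ideal.comap_minimalPrimes_eq_of_surjective Ideal.Quotient.mk_surjective]
        exact ⟨P, hP, rfl⟩
      have h3 := height_add hc he hn ⟨P', inferInstance⟩
      rw [(minimal_over hP').2, hh] at h3
      have h3' : h + qd (⟨P', inferInstance⟩ : PrimeSpectrum B) = n := by exact_mod_cast h3
      have hmap : P'.map (Ideal.Quotient.mk _) = P := Ideal.map_comap_of_surjective _ Ideal.Quotient.mk_surjective _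
      have e := ringKrullDim_eq_of_ringEquiv (DoubleQuot.quotQuotEquivQuotOfLE hP'.le)
      rw [hmap, dim_quot ⟨P', inferInstance⟩] at e
      rw [e, hd]
      exact_mod_cast (show qd (⟨P', inferInstance⟩ : PrimeSpectrum B) = d by omega)
    obtain ⟨m', hm'⟩ := Groth.L01.exists_dim_eq_nat (R := Ap)
    have hmp : m' = qd p := by rw [dim_quot p] at hm'; exact_mod_cast hm'.symm
    let qb : PrimeSpectrum Ap := ⟨q.asIdeal.map (Ideal.Quotient.mk p.asIdeal),
      Ideal.map_isPrime_of_surjective Ideal.Quotient.mk_surjective (by rw [Ideal.mk_ker]; exact hcov.le)⟩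
    have h3 := height_add_descent (A := Ap) (B := C) hcC heC hm' qb
    obtain ⟨c, hc'⟩ := ENat.ne_top_iff_exists.1 (Ideal.height_ne_top qb.isPrime.ne_top)
    have hc1 : c ≤ 1 := by
      have := Groth.Agent.S0603.height_map_le_one_of_covBy hcov
      change qb.asIdeal.height ≤ 1 at this
      rw [← hc'] at this
      exact_mod_cast this
    rw [← hc'] at h3
    have h3' : c + qd qb = m' := by exact_mod_cast h3
    have e := ringKrullDim_eq_of_ringEquiv (DoubleQuot.quotQuotEquivQuotOfLE (show p.asIdeal ≤ q.asIdeal from hcov.le))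
    rw [dim_quot qb, dim_quot q] at e
    have e' : qd qb = qd q := by exact_mod_cast e
    exact_mod_cast (show qd p = qd q + 1 by omega)

end Flat

end Groth.L10.FormCat
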